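import Cfsg.Agent.H75.M5hExc
import Cfsg.Agent.R2.Spec.X4.Base

/-!
# Box X4 of S3435 : rows `E₇(u)`, `E₈(u)` (helper19)

By size: the values of eight cyclotomic polynomials divide `2 p² (q⁶ - 1) (q² + 1) ≤ 960 k⁵` and `k` divides one of them
(the engine of `H75/M5hExc`).
-/

set_option autoImplicit false
set_option linter.unusedVariables false

namespace Cfsg.Agent.R2.Spec.X4.H19

open Cfsg Cfsg.Lie Cfsg.Lie.ChevalleyDatum Cfsg.Agent.H376.Six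
open Cfsg.Agent.ChevalleyStructure.CoxeterGeomTypes Cfsg.Agent.Nodes.RGDChev
open Cfsg.Agent.BpExc.RowsUntw Cfsg.Agent.BpExc.FamInst Cfsg.Agent.BpExc.FamExt
open Cfsg.Agent.H77.E4Poly Cfsg.Agent.H77.E4Tor Cfsg.Agent.H378.ExcAdj Cfsg.Agent.H378.ExcNear Cfsg.Agent.H77.E4Cls
open Cfsg.Agent.H493.PGCyc Cfsg.Agent.H493.PGTorus Cfsg.Agent.H129.WData
open Cfsg.Agent.H75.M5h (ph ph_pos prod7 prod8 mul5 cls_E7 cls_E8 Pz_eq)
open Cfsg.Agent.H426.LieFam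

universe u

/-! ### the element orders -/

/-- one element order from a row -/
theorem of_rowX {W : ℕ} {D : ChevalleyDatum} {F : Type u} [Field F] [Finite F] {d k : ℕ} (hd2 : d ∣ 2)
    (h : ∀ x : ↥(D.group F), orderOf x ∣ W) (hk : 0 < ph k (Nat.card F : ℕ))
    (hx : ∀ m : ℕ, 0 < m → (m : ℤ) ∣ ph k (Nat.card F : ℕ) → ∃ x : ↥(D.group F), m ∣ orderOf x * Nat.gcd d (Nat.card F - 1)) :
    ph k (Nat.card F : ℕ) ∣ ((2 * W : ℕ) : ℤ) := by
  obtain ⟨n, hn⟩ := Int.eq_ofNat_of_zero_le hk.le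
  obtain ⟨x, hx⟩ := hx n (by omega) (by rw [hn])
  rw [hn]
  refine Int.natCast_dvd_natCast.2 (hx.trans ?_)
  rw [mul_comm 2]
  exact Nat.mul_dvd_mul (h x) ((Nat.gcd_dvd_left _ _).trans hd2)

theorem rXE7_5 {W : ℕ} {F : Type u} [Field F] [Finite F] (h : ∀ x : ↥(chevE7.group F), orderOf x ∣ W) :
    ph 5 (Nat.card F : ℕ) ∣ ((2 * W : ℕ) : ℤ) := by
  have := H493.PGE7.finW
  have hF : 2 ≤ Nat.card F := Finite.one_lt_card
  refine of_rowX (d := 2) dvd_rfl h (ph_pos (by exact_mod_cast hF)) fun m hm hd => ?_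
  exact exists_row H493.PGE7.hp CoxeterMatrix.E₇.toCoxeterSystem H129.TorusChar.invC_E7 two_ne_zero H493.PGE7.hA H559.ConjE7.chain5_ok H559.ConjE7.eig5 hm
    (by rw [pv_c5]; exact hd)

theorem rXE7_7 {W : ℕ} {F : Type u} [Field F] [Finite F] (h : ∀ x : ↥(chevE7.group F), orderOf x ∣ W) :
    ph 7 (Nat.card F : ℕ) ∣ ((2 * W : ℕ) : ℤ) := by
  have := H493.PGE7.finW
  have hF : 2 ≤ Nat.card F := Finite.one_lt_card
  refine of_rowX (d := 2) dvd_rfl h (ph_pos (by exact_mod_cast hF)) fun m hm hd => ?_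
  exact exists_row H493.PGE7.hp CoxeterMatrix.E₇.toCoxeterSystem H129.TorusChar.invC_E7 two_ne_zero H493.PGE7.hA H493.PGE7.chain7_ok H493.PGE7.eig7 hm
    (by rw [pv_c7]; exact hd)

theorem rXE7_8 {W : ℕ} {F : Type u} [Field F] [Finite F] (h : ∀ x : ↥(chevE7.group F), orderOf x ∣ W) :
    ph 8 (Nat.card F : ℕ) ∣ ((2 * W : ℕ) : ℤ) := by
  have := H493.PGE7.finW
  have hF : 2 ≤ Nat.card F := Finite.one_lt_card
  refine of_rowX (d := 2) dvd_rfl h (ph_pos (by exact_mod_cast hF)) fun m hm hd => ?_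
  exact exists_row H493.PGE7.hp CoxeterMatrix.E₇.toCoxeterSystem H129.TorusChar.invC_E7 two_ne_zero H493.PGE7.hA H559.ConjE7.chain8_ok H559.ConjE7.eig8 hm
    (by rw [pv_c8]; exact hd)

theorem rXE7_9 {W : ℕ} {F : Type u} [Field F] [Finite F] (h : ∀ x : ↥(chevE7.group F), orderOf x ∣ W) :
    ph 9 (Nat.card F : ℕ) ∣ ((2 * W : ℕ) : ℤ) := by
  have := H493.PGE7.finW
  have hF : 2 ≤ Nat.card F := Finite.one_lt_card
  refine of_rowX (d := 2) dvd_rfl h (ph_pos (by exact_mod_cast hF)) fun m hm hd => ?_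
  exact exists_row H493.PGE7.hp CoxeterMatrix.E₇.toCoxeterSystem H129.TorusChar.invC_E7 two_ne_zero H493.PGE7.hA H493.PGE7.chain9_ok H493.PGE7.eig9 hm
    (by rw [pv_c9]; exact hd)

theorem rXE7_10 {W : ℕ} {F : Type u} [Field F] [Finite F] (h : ∀ x : ↥(chevE7.group F), orderOf x ∣ W) :
    ph 10 (Nat.card F : ℕ) ∣ ((2 * W : ℕ) : ℤ) := by
  have := H493.PGE7.finW
  have hF : 2 ≤ Nat.card F := Finite.one_lt_card
  refine of_rowX (d := 2) dvd_rfl h (ph_pos (by exact_mod_cast hF)) fun m hm hd => ?_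
  exact exists_row H493.PGE7.hp CoxeterMatrix.E₇.toCoxeterSystem H129.TorusChar.invC_E7 two_ne_zero H493.PGE7.hA H559.ConjE7.chain10_ok H559.ConjE7.eig10 hm
    (by rw [pv_c10]; exact hd)

theorem rXE7_12 {W : ℕ} {F : Type u} [Field F] [Finite F] (h : ∀ x : ↥(chevE7.group F), orderOf x ∣ W) :
    ph 12 (Nat.card F : ℕ) ∣ ((2 * W : ℕ) : ℤ) := by
  have := H493.PGE7.finW
  have hF : 2 ≤ Nat.card F := Finite.one_lt_card
  refine of_rowX (d := 2) dvd_rfl h (ph_pos (by exact_mod_cast hF)) fun m hm hd => ?_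
  exact exists_row H493.PGE7.hp CoxeterMatrix.E₇.toCoxeterSystem H129.TorusChar.invC_E7 two_ne_zero H493.PGE7.hA H559.ConjE7.chain12_ok H559.ConjE7.eig12 hm
    (by rw [pv_c12]; exact hd)

theorem rXE7_14 {W : ℕ} {F : Type u} [Field F] [Finite F] (h : ∀ x : ↥(chevE7.group F), orderOf x ∣ W) :
    ph 14 (Nat.card F : ℕ) ∣ ((2 * W : ℕ) : ℤ) := by
  have := H493.PGE7.finW
  have hF : 2 ≤ Nat.card F := Finite.one_lt_card
  refine of_rowX (d := 2) dvd_rfl h (ph_pos (by exact_mod_cast hF)) fun m hm hd => ?_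
  exact exists_row H493.PGE7.hp CoxeterMatrix.E₇.toCoxeterSystem H129.TorusChar.invC_E7 two_ne_zero H493.PGE7.hA H493.PGE7.chain14_ok H493.PGE7.eig14 hm
    (by rw [pv_c14]; exact hd)

theorem rXE7_18 {W : ℕ} {F : Type u} [Field F] [Finite F] (h : ∀ x : ↥(chevE7.group F), orderOf x ∣ W) :
    ph 18 (Nat.card F : ℕ) ∣ ((2 * W : ℕ) : ℤ) := by
  have := H493.PGE7.finW
  have hF : 2 ≤ Nat.card F := Finite.one_lt_card
  refine of_rowX (d := 2) dvd_rfl h (ph_pos (by exact_mod_cast hF)) fun m hm hd => ?_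
  exact exists_row H493.PGE7.hp CoxeterMatrix.E₇.toCoxeterSystem H129.TorusChar.invC_E7 two_ne_zero H493.PGE7.hA H493.PGE7.chain18_ok H493.PGE7.eig18 hm
    (by rw [pv_c18]; exact hd)

theorem rXE8_7 {W : ℕ} {F : Type u} [Field F] [Finite F] (h : ∀ x : ↥(chevE8.group F), orderOf x ∣ W) :
    ph 7 (Nat.card F : ℕ) ∣ ((2 * W : ℕ) : ℤ) := by
  have := H493.PGE8.finW
  have hF : 2 ≤ Nat.card F := Finite.one_lt_card
  refine of_rowX (d := 1) (by norm_num) h (ph_pos (by exact_mod_cast hF)) fun m hm hd => ?_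
  exact exists_row H493.PGE8.hp CoxeterMatrix.E₈.toCoxeterSystem H129.TorusChar.invC_E8 one_ne_zero H493.PGE8.hA H559.ConjE8.chain7_ok H559.ConjE8.eig7 hm
    (by rw [pv_c7]; exact hd)

theorem rXE8_9 {W : ℕ} {F : Type u} [Field F] [Finite F] (h : ∀ x : ↥(chevE8.group F), orderOf x ∣ W) :
    ph 9 (Nat.card F : ℕ) ∣ ((2 * W : ℕ) : ℤ) := by
  have := H493.PGE8.finW
  have hF : 2 ≤ Nat.card F := Finite.one_lt_card
  refine of_rowX (d := 1) (by norm_num) h (ph_pos (by exact_mod_cast hF)) fun m hm hd => ?_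
  exact exists_row H493.PGE8.hp CoxeterMatrix.E₈.toCoxeterSystem H129.TorusChar.invC_E8 one_ne_zero H493.PGE8.hA H559.ConjE8.chain9_ok H559.ConjE8.eig9 hm
    (by rw [pv_c9]; exact hd)

theorem rXE8_14 {W : ℕ} {F : Type u} [Field F] [Finite F] (h : ∀ x : ↥(chevE8.group F), orderOf x ∣ W) :
    ph 14 (Nat.card F : ℕ) ∣ ((2 * W : ℕ) : ℤ) := by
  have := H493.PGE8.finW
  have hF : 2 ≤ Nat.card F := Finite.one_lt_card
  refine of_rowX (d := 1) (by norm_num) h (ph_pos (by exact_mod_cast hF)) fun m hm hd => ?_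
  exact exists_row H493.PGE8.hp CoxeterMatrix.E₈.toCoxeterSystem H129.TorusChar.invC_E8 one_ne_zero H493.PGE8.hA H559.ConjE8.chain14_ok H559.ConjE8.eig14 hm
    (by rw [pv_c14]; exact hd)

theorem rXE8_15 {W : ℕ} {F : Type u} [Field F] [Finite F] (h : ∀ x : ↥(chevE8.group F), orderOf x ∣ W) :
    ph 15 (Nat.card F : ℕ) ∣ ((2 * W : ℕ) : ℤ) := by
  have := H493.PGE8.finW
  have hF : 2 ≤ Nat.card F := Finite.one_lt_card
  refine of_rowX (d := 1) (by norm_num) h (ph_pos (by exact_mod_cast hF)) fun m hm hd => ?_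
  exact exists_row H493.PGE8.hp CoxeterMatrix.E₈.toCoxeterSystem H129.TorusChar.invC_E8 one_ne_zero H493.PGE8.hA H493.PGE8.chain15_ok H493.PGE8.eig15 hm
    (by rw [pv_c15]; exact hd)

theorem rXE8_18 {W : ℕ} {F : Type u} [Field F] [Finite F] (h : ∀ x : ↥(chevE8.group F), orderOf x ∣ W) :
    ph 18 (Nat.card F : ℕ) ∣ ((2 * W : ℕ) : ℤ) := by
  have := H493.PGE8.finW
  have hF : 2 ≤ Nat.card F := Finite.one_lt_card
  refine of_rowX (d := 1) (by norm_num) h (ph_pos (by exact_mod_cast hF)) fun m hm hd => ?_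
  exact exists_row H493.PGE8.hp CoxeterMatrix.E₈.toCoxeterSystem H129.TorusChar.invC_E8 one_ne_zero H493.PGE8.hA H559.ConjE8.chain18_ok H559.ConjE8.eig18 hm
    (by rw [pv_c18]; exact hd)

theorem rXE8_20 {W : ℕ} {F : Type u} [Field F] [Finite F] (h : ∀ x : ↥(chevE8.group F), orderOf x ∣ W) :
    ph 20 (Nat.card F : ℕ) ∣ ((2 * W : ℕ) : ℤ) := by
  have := H493.PGE8.finW
  have hF : 2 ≤ Nat.card F := Finite.one_lt_card
  refine of_rowX (d := 1) (by norm_num) h (ph_pos (by exact_mod_cast hF)) fun m hm hd => ?_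
  exact exists_row H493.PGE8.hp CoxeterMatrix.E₈.toCoxeterSystem H129.TorusChar.invC_E8 one_ne_zero H493.PGE8.hA H493.PGE8.chain20_ok H493.PGE8.eig20 hm
    (by rw [pv_c20]; exact hd)

theorem rXE8_24 {W : ℕ} {F : Type u} [Field F] [Finite F] (h : ∀ x : ↥(chevE8.group F), orderOf x ∣ W) :
    ph 24 (Nat.card F : ℕ) ∣ ((2 * W : ℕ) : ℤ) := by
  have := H493.PGE8.finW
  have hF : 2 ≤ Nat.card F := Finite.one_lt_card
  refine of_rowX (d := 1) (by norm_num) h (ph_pos (by exact_mod_cast hF)) fun m hm hd => ?_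
  exact exists_row H493.PGE8.hp CoxeterMatrix.E₈.toCoxeterSystem H129.TorusChar.invC_E8 one_ne_zero H493.PGE8.hA H493.PGE8.chain24_ok H493.PGE8.eig24 hm
    (by rw [pv_c24]; exact hd)

theorem rXE8_30 {W : ℕ} {F : Type u} [Field F] [Finite F] (h : ∀ x : ↥(chevE8.group F), orderOf x ∣ W) :
    ph 30 (Nat.card F : ℕ) ∣ ((2 * W : ℕ) : ℤ) := by
  have := H493.PGE8.finW
  have hF : 2 ≤ Nat.card F := Finite.one_lt_card
  refine of_rowX (d := 1) (by norm_num) h (ph_pos (by exact_mod_cast hF)) fun m hm hd => ?_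
  exact exists_row H493.PGE8.hp CoxeterMatrix.E₈.toCoxeterSystem H129.TorusChar.invC_E8 one_ne_zero H493.PGE8.hA H493.PGE8.chain30_ok H493.PGE8.eig30 hm
    (by rw [pv_c30]; exact hd)

/-! ### the numbers -/

theorem bound_int {q p a : ℤ} (hq : 7 ≤ q) (hp : 0 ≤ p) (hpq : p ≤ q) (ha : q ^ 2 - q + 1 ≤ 3 * a) :
    2 * (p ^ 2 * ((q ^ 6 - 1) * (q ^ 2 + 1))) ≤ 960 * a ^ 5 := by
  obtain ⟨k, hk, rfl⟩ : ∃ k : ℤ, 0 ≤ k ∧ q = k + 7 := ⟨q - 7, by omega, by ring⟩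
  have h1 : 0 ≤ (k + 7) ^ 2 - (k + 7) + 1 := by nlinarith
  have h2 : ((k + 7) ^ 2 - (k + 7) + 1) ^ 5 ≤ (3 * a) ^ 5 := pow_le_pow_left₀ h1 ha 5
  have h3 : 0 ≤ 960 * ((k + 7) ^ 2 - (k + 7) + 1) ^ 5 - 243 * (2 * ((k + 7) ^ 2 * (((k + 7) ^ 6 - 1) * ((k + 7) ^ 2 + 1)))) := by
    have : 960 * ((k + 7) ^ 2 - (k + 7) + 1) ^ 5 - 243 * (2 * ((k + 7) ^ 2 * (((k + 7) ^ 6 - 1) * ((k + 7) ^ 2 + 1)))) =
        1044631680 + 14013390792 * k + 17725379508 * k ^ 2 + 10356142536 * k ^ 3 + 3568771926 * k ^ 4 + 794828088 * k ^ 5 + 118419948 * k ^ 6 + 11793024 * k ^ 7 + 756684 * k ^ 8 + 28380 * k ^ 9 + 474 * k ^ 10 := by ring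
    rw [this]
    positivity
  have h4 : p ^ 2 ≤ (k + 7) ^ 2 := pow_le_pow_left₀ hp hpq 2
  have h5 : 0 ≤ ((k + 7) ^ 6 - 1) * ((k + 7) ^ 2 + 1) := by
    refine mul_nonneg ?_ (by positivity)
    have : (1 : ℤ) ≤ (k + 7) ^ 6 := one_le_pow₀ (by omega)
    omega
  have h6 := mul_le_mul_of_nonneg_right h4 h5
  have h7 : (3 * a) ^ 5 = 243 * a ^ 5 := by ring
  rw [h7] at h2
  linarith

theorem num7X {x a W : ℤ} (hx3 : 3 ≤ x) (ha : 0 < a) (hW : 0 < W) (hWa : W ≤ 960 * a ^ 5) (hax : a ≤ ph 7 x)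
    (h5 : ph 5 x ∣ W) (h7 : ph 7 x ∣ W) (h8 : ph 8 x ∣ W) (h9 : ph 9 x ∣ W) (h10 : ph 10 x ∣ W)
    (h12 : ph 12 x ∣ W) (h14 : ph 14 x ∣ W) (h18 : ph 18 x ∣ W) : False := by
  have h1 := Int.le_of_dvd hW (prod7 h5 h7 h8 h9 h10 h12 h14 h18)
  have h0 : 0 ≤ x := by omega
  have e1 : x ^ 8 ≤ ph 5 x * ph 10 x := by
    have : ph 5 x * ph 10 x = x ^ 8 + (x ^ 6 + x ^ 4 + x ^ 2 + 1) := by simp only [ph]; ring
    rw [this]; linarith [show 0 ≤ x ^ 6 + x ^ 4 + x ^ 2 + 1 by positivity]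
  have e2 : x ^ 12 ≤ ph 7 x * ph 14 x := by
    have : ph 7 x * ph 14 x = x ^ 12 + (x ^ 10 + x ^ 8 + x ^ 6 + x ^ 4 + x ^ 2 + 1) := by simp only [ph]; ring
    rw [this]; linarith [show 0 ≤ x ^ 10 + x ^ 8 + x ^ 6 + x ^ 4 + x ^ 2 + 1 by positivity]
  have e3 : x ^ 12 ≤ ph 9 x * ph 18 x := by
    have : ph 9 x * ph 18 x = x ^ 12 + (x ^ 6 + 1) := by simp only [ph]; ring
    rw [this]; linarith [show 0 ≤ x ^ 6 + 1 by positivity]
  have e4 : x ^ 4 ≤ ph 8 x := by simp only [ph]; linarith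
  have e5 : x ^ 3 ≤ ph 12 x := by
    have : ph 12 x = x ^ 3 + (x ^ 2 * (x * (x - 1) - 1) + 1) := by simp only [ph]; ring
    rw [this]
    have h3 : 0 ≤ x * (x - 1) - 1 := by nlinarith
    linarith [show 0 ≤ x ^ 2 * (x * (x - 1) - 1) + 1 by positivity]
  have e6 : 2 * ph 7 x ≤ 3 * x ^ 6 := by
    obtain ⟨k, hk, rfl⟩ : ∃ k : ℤ, 0 ≤ k ∧ x = k + 3 := ⟨x - 3, by omega, by ring⟩
    have h3 : 3 * (k + 3) ^ 6 - 2 * ph 7 (k + 3) = k^6 + 16*k^5 + 103*k^4 + 334*k^3 + 547*k^2 + 364*k + 1 := by simp only [ph]; ring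
    have h4 : 0 ≤ k^6 + 16*k^5 + 103*k^4 + 334*k^3 + 547*k^2 + 364*k + 1 := by positivity
    linarith
  have h3 : x ^ 39 ≤ ph 5 x * ph 7 x * ph 8 x * ph 9 x * ph 10 x * ph 12 x * ph 14 x * ph 18 x := by
    calc x ^ 39 = x ^ 8 * x ^ 12 * x ^ 12 * x ^ 4 * x ^ 3 := by ring
      _ ≤ (ph 5 x * ph 10 x) * (ph 7 x * ph 14 x) * (ph 9 x * ph 18 x) * ph 8 x * ph 12 x :=
        mul5 (by positivity) (by positivity) (by positivity) (by positivity) (by positivity) e1 e2 e3 e4 e5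
      _ = _ := by ring
  have h4 : (2 * a) ^ 5 ≤ (3 * x ^ 6) ^ 5 := pow_le_pow_left₀ (by omega) (by linarith) 5
  have h5 : (3 : ℤ) ^ 9 ≤ x ^ 9 := pow_le_pow_left₀ (by norm_num) hx3 9
  have h6 : (0 : ℤ) < x ^ 30 := by positivity
  have h7 : (3 : ℤ) ^ 9 * x ^ 30 ≤ x ^ 39 := by
    calc (3 : ℤ) ^ 9 * x ^ 30 ≤ x ^ 9 * x ^ 30 := Int.mul_le_mul_of_nonneg_right h5 h6.le
      _ = x ^ 39 := by ring
  have h8 : (2 * a) ^ 5 = 32 * a ^ 5 := by ring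
  have h9 : (3 * x ^ 6) ^ 5 = 243 * x ^ 30 := by ring
  rw [h8, h9] at h4
  linarith

theorem num8X {x a W : ℤ} (hx : 2 ≤ x) (ha : 0 < a) (hW : 0 < W) (hWa : W ≤ 960 * a ^ 5) (hax : a ≤ 2 * x ^ 8)
    (h7 : ph 7 x ∣ W) (h9 : ph 9 x ∣ W) (h14 : ph 14 x ∣ W) (h15 : ph 15 x ∣ W) (h18 : ph 18 x ∣ W)
    (h20 : ph 20 x ∣ W) (h24 : ph 24 x ∣ W) (h30 : ph 30 x ∣ W) : False := by
  have h1 := Int.le_of_dvd hW (prod8 h7 h9 h14 h15 h18 h20 h24 h30)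
  have h5 : a ^ 5 ≤ (2 * x ^ 8) ^ 5 := pow_le_pow_left₀ ha.le hax 5
  rcases eq_or_lt_of_le hx with rfl | hx3
  · simp only [ph] at h1
    norm_num at h1 h5
    linarith
  have hx3 : 3 ≤ x := hx3
  have h0 : 0 ≤ x := by omega
  have e2 : x ^ 12 ≤ ph 7 x * ph 14 x := by
    have : ph 7 x * ph 14 x = x ^ 12 + (x ^ 10 + x ^ 8 + x ^ 6 + x ^ 4 + x ^ 2 + 1) := by simp only [ph]; ring
    rw [this]; linarith [show 0 ≤ x ^ 10 + x ^ 8 + x ^ 6 + x ^ 4 + x ^ 2 + 1 by positivity]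
  have e3 : x ^ 12 ≤ ph 9 x * ph 18 x := by
    have : ph 9 x * ph 18 x = x ^ 12 + (x ^ 6 + 1) := by simp only [ph]; ring
    rw [this]; linarith [show 0 ≤ x ^ 6 + 1 by positivity]
  have h3 : 0 ≤ x * (x - 1) - 1 := by nlinarith
  have h3' : 0 ≤ x - 1 := by omega
  have e4 : x ^ 15 ≤ ph 15 x * ph 30 x := by
    have : ph 15 x * ph 30 x = x ^ 15 + (x ^ 14 * (x * (x - 1) - 1) + x ^ 8 * (x ^ 2 - 1) + x ^ 2 * (x ^ 4 - 1) + 1) := by
      simp only [ph]; ring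
    have h4 : 0 ≤ x ^ 2 - 1 := by nlinarith
    have h5 : 0 ≤ x ^ 4 - 1 := by nlinarith
    rw [this]; linarith [show 0 ≤ x ^ 14 * (x * (x - 1) - 1) + x ^ 8 * (x ^ 2 - 1) + x ^ 2 * (x ^ 4 - 1) + 1 by positivity]
  have e5 : x ^ 7 ≤ ph 20 x := by
    have : ph 20 x = x ^ 7 + (x ^ 6 * (x * (x - 1) - 1) + x ^ 2 * (x ^ 2 - 1) + 1) := by simp only [ph]; ring
    have h4 : 0 ≤ x ^ 2 - 1 := by nlinarith
    rw [this]; linarith [show 0 ≤ x ^ 6 * (x * (x - 1) - 1) + x ^ 2 * (x ^ 2 - 1) + 1 by positivity]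
  have e6 : x ^ 7 ≤ ph 24 x := by
    have : ph 24 x = x ^ 7 + (x ^ 4 * (x ^ 3 * (x - 1) - 1) + 1) := by simp only [ph]; ring
    have h4 : 0 ≤ x ^ 3 * (x - 1) - 1 := by
      have h5 : (8 : ℤ) ≤ x ^ 3 := by
        calc (8 : ℤ) = 2 ^ 3 := by norm_num
          _ ≤ x ^ 3 := pow_le_pow_left₀ (by norm_num) hx 3
      nlinarith
    rw [this]; linarith [show 0 ≤ x ^ 4 * (x ^ 3 * (x - 1) - 1) + 1 by positivity]
  have h4 : x ^ 53 ≤ ph 7 x * ph 9 x * ph 14 x * ph 15 x * ph 18 x * ph 20 x * ph 24 x * ph 30 x := by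
    calc x ^ 53 = x ^ 12 * x ^ 12 * x ^ 15 * x ^ 7 * x ^ 7 := by ring
      _ ≤ (ph 7 x * ph 14 x) * (ph 9 x * ph 18 x) * (ph 15 x * ph 30 x) * ph 20 x * ph 24 x :=
        mul5 (by positivity) (by positivity) (by positivity) (by positivity) (by positivity) e2 e3 e4 e5 e6
      _ = _ := by ring
  have h6 : (3 : ℤ) ^ 13 ≤ x ^ 13 := pow_le_pow_left₀ (by norm_num) hx3 13
  have h7 : (0 : ℤ) < x ^ 40 := by positivity
  have h8 : (3 : ℤ) ^ 13 * x ^ 40 ≤ x ^ 53 := by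
    calc (3 : ℤ) ^ 13 * x ^ 40 ≤ x ^ 13 * x ^ 40 := Int.mul_le_mul_of_nonneg_right h6 h7.le
      _ = x ^ 53 := by ring
  have h9 : (2 * x ^ 8) ^ 5 = 32 * x ^ 40 := by ring
  rw [h9] at h5
  linarith

/-- the field with two elements for `E₇` -/
theorem no_31 : ∀ q < 21, 7 ≤ q → ∀ p < 21, p ∣ q → ¬ 31 ∣ 2 * (p ^ 2 * ((q ^ 6 - 1) * (q ^ 2 + 1))) := by
  decide +kernel

/-! ### the rows -/

section

variable {p q k A k' B m i : ℕ} {W : ℕ → Prop} {S : Type u} [Group S]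

/-- the facts used -/
theorem facts (h : SX p q k A k' B m i W S) :
    0 < ((2 * (p ^ 2 * ((q ^ 6 - 1) * (q ^ 2 + 1))) : ℕ) : ℤ) ∧
      ((2 * (p ^ 2 * ((q ^ 6 - 1) * (q ^ 2 + 1))) : ℕ) : ℤ) ≤ 960 * (k : ℤ) ^ 5 := by
  have hq7 := h.lw.q7
  have hpq := h.lw.pq
  have hp := h.lw.pp.pos
  have e6 : 1 ≤ q ^ 6 := Nat.one_le_pow _ _ (by omega)
  have e6' : 7 ^ 6 ≤ q ^ 6 := Nat.pow_le_pow_left hq7 6
  have hk := (h.lw.side.k_ge h.lw.q2).1
  have hq2 : q ≤ q ^ 2 := Nat.le_self_pow (by norm_num) _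
  constructor
  · have : 0 < 2 * (p ^ 2 * ((q ^ 6 - 1) * (q ^ 2 + 1))) :=
      Nat.mul_pos (by norm_num) (Nat.mul_pos (by positivity) (Nat.mul_pos (by omega) (by positivity)))
    exact_mod_cast this
  · push_cast [Nat.cast_sub e6]
    refine bound_int (by exact_mod_cast hq7) (by positivity) (by exact_mod_cast hpq) ?_
    zify [hq2] at hk
    exact hk

theorem not_adj (h : SX p q k A k' B m i W S) {G : Type*} [Group G] (e : S ≃* G) {r : ℕ} (hr : r.Prime) (hk : r ∣ k) :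
    r ≠ 2 ∧ ¬ H94.PG.Adj G r 2 := by
  have h1 := h.lw.side.prime h.lw.q2 hr (Or.inl hk)
  refine ⟨by omega, ?_⟩
  rintro ⟨-, -, -, x, y, hx, hy, hxy⟩
  refine h.twoS hr hk ⟨e.symm (x * y), ?_⟩
  have h3 : (orderOf x).Coprime (orderOf y) := by
    rw [hx, hy]
    exact (Nat.coprime_primes hr Nat.prime_two).2 (by omega)
  rw [MulEquiv.orderOf_eq, hxy.orderOf_mul_eq_mul_orderOf_of_coprime h3, hx, hy, mul_comm]

/-- **Row `E₇(u)`.** -/
theorem row_e7 {v f : ℕ} (h : SX p q k A k' B m i W S) (hg : Good W m i) (hI : Fam.Is v f S Fam.e7) : False := by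
  obtain ⟨F, _, _, _, hcard, ⟨e⟩⟩ := hI
  obtain ⟨y, hy⟩ := h.kS hg
  have hk19 : 7 ≤ k := by
    have h1 := (h.lw.side.k_ge h.lw.q2).1
    have h2 := h.lw.q7
    have h3 : q * 7 ≤ q ^ 2 := by rw [pow_two]; exact Nat.mul_le_mul_left _ h2
    omega
  have hx : orderOf (e y) = k := by rw [MulEquiv.orderOf_eq, hy]
  have hW : ∀ x : ↥(chevE7.group F), orderOf x ∣ p ^ 2 * ((q ^ 6 - 1) * (q ^ 2 + 1)) := by
    intro x
    have h1 := h.lw.exp _ (h.WS (e.symm x))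
    rwa [MulEquiv.orderOf_eq] at h1
  obtain ⟨m0, hm, hd⟩ := cls_E7 F (e y) (by omega) fun r hr hrd => not_adj h e hr (by rwa [← hx])
  rw [hx] at hd
  have hv : (2 : ℤ) ≤ (Nat.card F : ℕ) := by
    have : 2 ≤ Nat.card F := Finite.one_lt_card
    exact_mod_cast this
  have hd' : (k : ℤ) ∣ ph m0 (Nat.card F : ℕ) := by
    have := Int.natCast_dvd_natCast.2 hd
    rwa [cast_Pn Finite.one_lt_card, Pz_eq (by
      simp only [List.mem_cons, List.not_mem_nil, or_false] at hm ⊢; tauto)] at this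
  have hle := Int.le_of_dvd (ph_pos hv) hd'
  obtain ⟨hWp, hWa⟩ := facts h
  have hle7 : (k : ℤ) ≤ ph 7 (Nat.card F : ℕ) := by
    refine hle.trans ?_
    generalize ((Nat.card F : ℕ) : ℤ) = x at *
    have h0 : 0 ≤ x := by omega
    have h1 : 0 ≤ x - 1 := by omega
    simp only [List.mem_cons, List.not_mem_nil, or_false] at hm
    rcases hm with rfl | rfl | rfl | rfl | rfl
    · exact le_rfl
    · have : ph 7 x = ph 9 x + (x ^ 5 + x ^ 4 + x ^ 2 + x) := by simp only [ph]; ring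
      rw [this]; linarith [show 0 ≤ x ^ 5 + x ^ 4 + x ^ 2 + x by positivity]
    · have : ph 7 x = ph 12 x + (x ^ 6 + x ^ 5 + x ^ 3 + 2 * x ^ 2 + x) := by simp only [ph]; ring
      rw [this]; linarith [show 0 ≤ x ^ 6 + x ^ 5 + x ^ 3 + 2 * x ^ 2 + x by positivity]
    · have : ph 7 x = ph 14 x + 2 * (x ^ 5 + x ^ 3 + x) := by simp only [ph]; ring
      rw [this]; linarith [show 0 ≤ x ^ 5 + x ^ 3 + x by positivity]
    · have : ph 7 x = ph 18 x + (x ^ 5 + x ^ 4 + 2 * x ^ 3 + x ^ 2 + x) := by simp only [ph]; ring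
      rw [this]; linarith [show 0 ≤ x ^ 5 + x ^ 4 + 2 * x ^ 3 + x ^ 2 + x by positivity]
  rcases eq_or_lt_of_le hv with h2 | h3
  · have h5 := rXE7_5 hW
    rw [← h2] at hle7 h5
    have hk' : k ≤ 127 := by simp only [ph] at hle7; norm_num at hle7; exact hle7
    have h31 : 31 ∣ 2 * (p ^ 2 * ((q ^ 6 - 1) * (q ^ 2 + 1))) := by
      have h6 : (31 : ℤ) ∣ ((2 * (p ^ 2 * ((q ^ 6 - 1) * (q ^ 2 + 1))) : ℕ) : ℤ) := by
        simp only [ph] at h5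
        norm_num at h5 ⊢
        exact h5
      exact_mod_cast h6
    have hq7 := h.lw.q7
    have hkk := (h.lw.side.k_ge h.lw.q2).1
    have hq : q < 21 := by
      by_contra hlt
      push Not at hlt
      have h3 : q * 21 ≤ q ^ 2 := by rw [pow_two]; exact Nat.mul_le_mul_left _ hlt
      omega
    exact no_31 q hq hq7 p (by have := h.lw.pq; omega) h.lw.p_dvd h31
  · exact num7X h3 (by omega) hWp hWa hle7 (rXE7_5 hW) (rXE7_7 hW) (rXE7_8 hW) (rXE7_9 hW) (rXE7_10 hW) (rXE7_12 hW)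
      (rXE7_14 hW) (rXE7_18 hW)

/-- **Row `E₈(u)`.** -/
theorem row_e8 {v f : ℕ} (h : SX p q k A k' B m i W S) (hg : Good W m i) (hI : Fam.Is v f S Fam.e8) : False := by
  obtain ⟨F, _, _, _, hcard, ⟨e⟩⟩ := hI
  obtain ⟨y, hy⟩ := h.kS hg
  have hk19 : 7 ≤ k := by
    have h1 := (h.lw.side.k_ge h.lw.q2).1
    have h2 := h.lw.q7
    have h3 : q * 7 ≤ q ^ 2 := by rw [pow_two]; exact Nat.mul_le_mul_left _ h2
    omega
  have hx : orderOf (e y) = k := by rw [MulEquiv.orderOf_eq, hy]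
  have hW : ∀ x : ↥(chevE8.group F), orderOf x ∣ p ^ 2 * ((q ^ 6 - 1) * (q ^ 2 + 1)) := by
    intro x
    have h1 := h.lw.exp _ (h.WS (e.symm x))
    rwa [MulEquiv.orderOf_eq] at h1
  obtain ⟨m0, hm, hd⟩ := cls_E8 F (e y) (by omega) fun r hr hrd => not_adj h e hr (by rwa [← hx])
  rw [hx] at hd
  have hv : (2 : ℤ) ≤ (Nat.card F : ℕ) := by
    have : 2 ≤ Nat.card F := Finite.one_lt_card
    exact_mod_cast this
  have hd' : (k : ℤ) ∣ ph m0 (Nat.card F : ℕ) := by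
    have := Int.natCast_dvd_natCast.2 hd
    rwa [cast_Pn Finite.one_lt_card, Pz_eq (by
      simp only [List.mem_cons, List.not_mem_nil, or_false] at hm ⊢; tauto)] at this
  have hle := Int.le_of_dvd (ph_pos hv) hd'
  obtain ⟨hWp, hWa⟩ := facts h
  have hle8 : (k : ℤ) ≤ 2 * (Nat.card F : ℕ) ^ 8 := by
    refine hle.trans ?_
    generalize ((Nat.card F : ℕ) : ℤ) = x at *
    have h0 : 0 ≤ x := by omega
    have h1 : 0 ≤ x - 1 := by omega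
    have h2 : 0 ≤ x ^ 2 - 1 := by nlinarith
    simp only [List.mem_cons, List.not_mem_nil, or_false] at hm
    rcases hm with rfl | rfl | rfl | rfl
    · have : 2 * x ^ 8 = ph 15 x + (x ^ 7 + x ^ 5 * (x ^ 2 - 1) + x ^ 7 * (x - 1) + x ^ 3 * (x - 1) + (x - 1)) := by
        simp only [ph]; ring
      rw [this]
      linarith [show 0 ≤ x ^ 7 + x ^ 5 * (x ^ 2 - 1) + x ^ 7 * (x - 1) + x ^ 3 * (x - 1) + (x - 1) by positivity]
    · have : 2 * x ^ 8 = ph 20 x + (x ^ 8 + x ^ 4 * (x ^ 2 - 1) + (x ^ 2 - 1)) := by simp only [ph]; ring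
      rw [this]; linarith [show 0 ≤ x ^ 8 + x ^ 4 * (x ^ 2 - 1) + (x ^ 2 - 1) by positivity]
    · have : 2 * x ^ 8 = ph 24 x + (x ^ 8 + x ^ 2 * (x ^ 2 - 1) + (x ^ 2 - 1)) := by simp only [ph]; ring
      rw [this]; linarith [show 0 ≤ x ^ 8 + x ^ 2 * (x ^ 2 - 1) + (x ^ 2 - 1) by positivity]
    · have : 2 * x ^ 8 = ph 30 x + (x ^ 7 * (x - 1) + x ^ 5 + x ^ 3 * (x - 1) + x * (x ^ 2 - 1) + (x ^ 3 - 1)) := by
        simp only [ph]; ring
      have h3 : 0 ≤ x ^ 3 - 1 := by nlinarith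
      rw [this]
      linarith [show 0 ≤ x ^ 7 * (x - 1) + x ^ 5 + x ^ 3 * (x - 1) + x * (x ^ 2 - 1) + (x ^ 3 - 1) by positivity]
  exact num8X hv (by omega) hWp hWa hle8 (rXE8_7 hW) (rXE8_9 hW) (rXE8_14 hW) (rXE8_15 hW) (rXE8_18 hW) (rXE8_20 hW)
    (rXE8_24 hW) (rXE8_30 hW)

end

end Cfsg.Agent.R2.Spec.X4.H19
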